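import Groth.Agent.H4Matlis.End

/-!
# The completion acts on power torsion modules in any universe
-/

set_option autoImplicit false

universe u v w

open InjHull LocCoh IsLocalRing

namespace Groth.Agent.H27HSL

open Groth.Agent.H4Matlis (rep mk_rep rep_sub_mem)

variable {R : Type u} [CommRing R] [IsLocalRing R]
variable {E : Type v} [AddCommGroup E] [Module R E]

local notation "m" => maximalIdeal R

/-- Action of the completion on a power torsion module. -/
noncomputable def act (hE : IsPowerTorsion m E) (r : AdicCompletion m R) (x : E) : E :=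
  rep r (hE x).choose • x

theorem act_eq (hE : IsPowerTorsion m E) (r : AdicCompletion m R) {x : E} {n : ℕ} {c : R}
    (hx : ∀ a ∈ m ^ n, a • x = 0) (hc : Ideal.Quotient.mk (m ^ n) c = AdicCompletion.evalₐ m n r) :
    act hE r x = c • x := by
  have hc' : rep r n • x = c • x := by
    rw [← sub_eq_zero, ← sub_smul]
    exact hx _ (by rw [← Ideal.Quotient.eq, mk_rep, hc])
  rw [← hc', act]
  rcases le_total (hE x).choose n with h | h
  · have := (hE x).choose_spec _ (rep_sub_mem h r)
    rw [sub_smul, sub_eq_zero] at this
    exact this.symm
  · have := hx _ (rep_sub_mem h r)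
    rw [sub_smul, sub_eq_zero] at this
    exact this

/-- The completion acts on `E` by endomorphisms. -/
noncomputable def actHom (hE : IsPowerTorsion m E) (r : AdicCompletion m R) : Module.End R E where
  toFun := act hE r
  map_add' x y := by
    obtain ⟨a, ha⟩ := hE x
    obtain ⟨b, hb⟩ := hE y
    have hx : ∀ c ∈ m ^ (max a b), c • x = 0 := fun c hc =>
      ha c (Ideal.pow_le_pow_right (le_max_left a b) hc)
    have hy : ∀ c ∈ m ^ (max a b), c • y = 0 := fun c hc =>
      hb c (Ideal.pow_le_pow_right (le_max_right a b) hc)
    rw [act_eq hE r (fun c hc => by rw [smul_add, hx c hc, hy c hc, add_zero]) (mk_rep r _),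
      act_eq hE r hx (mk_rep r _), act_eq hE r hy (mk_rep r _), smul_add]
  map_smul' t x := by
    obtain ⟨n, hn⟩ := hE x
    rw [RingHom.id_apply, act_eq hE r hn (mk_rep r n),
      act_eq hE r (fun c hc => by rw [smul_comm, hn c hc, smul_zero]) (mk_rep r n), smul_comm]

/-- `R̂ → End E` as an algebra map. -/
noncomputable def actAlg (hE : IsPowerTorsion m E) : AdicCompletion m R →ₐ[R] Module.End R E :=
  AlgHom.ofLinearMap
    { toFun := actHom hE
      map_add' := fun r s => LinearMap.ext fun x => by
        obtain ⟨n, hn⟩ := hE x
        show act hE (r + s) x = act hE r x + act hE s x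
        rw [act_eq hE (r + s) hn (c := rep r n + rep s n) (by rw [map_add, map_add, mk_rep, mk_rep]),
          act_eq hE r hn (mk_rep r n), act_eq hE s hn (mk_rep s n), add_smul]
      map_smul' := fun t r => LinearMap.ext fun x => by
        obtain ⟨n, hn⟩ := hE x
        show act hE (t • r) x = t • act hE r x
        rw [act_eq hE (t • r) hn (c := t * rep r n) (by
            rw [map_mul, map_smul, ← mk_rep r n]; rfl),
          act_eq hE r hn (mk_rep r n), mul_smul] }
    (LinearMap.ext fun x => by
      obtain ⟨n, hn⟩ := hE x
      show act hE 1 x = x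
      rw [act_eq hE 1 hn (c := 1) (by rw [map_one, map_one]), one_smul])
    (fun r s => LinearMap.ext fun x => by
      obtain ⟨n, hn⟩ := hE x
      show act hE (r * s) x = act hE r (act hE s x)
      rw [act_eq hE (r * s) hn (c := rep r n * rep s n) (by rw [map_mul, map_mul, mk_rep, mk_rep]),
        act_eq hE s hn (mk_rep s n),
        act_eq hE r (fun c hc => by rw [smul_comm, hn c hc, smul_zero]) (mk_rep r n), mul_smul])

/-- A power torsion module as a module over the completion. -/
@[reducible] noncomputable def complModule (hE : IsPowerTorsion m E) :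
    Module (AdicCompletion m R) E :=
  Module.compHom E (actAlg hE).toRingHom

/-- Linear maps of power torsion modules are linear over the completion. -/
theorem map_act {F : Type w} [AddCommGroup F] [Module R F] (hE : IsPowerTorsion m E)
    (hF : IsPowerTorsion m F) (ψ : E →ₗ[R] F) (r : AdicCompletion m R) (x : E) :
    ψ (act hE r x) = act hF r (ψ x) := by
  obtain ⟨n, hn⟩ := hE x
  rw [act_eq hE r hn (mk_rep r n),
    act_eq hF r (fun a ha => by rw [← map_smul, hn a ha, map_zero]) (mk_rep r n), map_smul]

end Groth.Agent.H27HSL
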