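import Groth.Agent.H27HSL.Act
import Groth.Agent.H4Inj.Essential
import Groth.Agent.H24Adic.CompletionNoetherian
import Mathlib.Algebra.Module.LocalizedModule.Submodule
import Mathlib.RingTheory.Localization.AtPrime.Basic
import Mathlib.RingTheory.Ideal.MinimalPrime.Basic
import Mathlib.Algebra.CharP.Lemmas

/-!
# The Hartshorne–Speiser–Lyubeznik theorem for locally nilpotent Frobenius actions
-/

set_option autoImplicit false
set_option linter.style.haveILetI false

universe u v w

open InjHull LocCoh IsLocalRing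
open Groth.Agent.H4Matlis (rep mk_rep)

namespace Groth.Agent.H27HSL

theorem isArtinian_localized {R : Type u} [CommRing R] [IsNoetherianRing R] {V : Type w}
    [AddCommGroup V] [Module R V] [Module.Finite R V] {I J : Ideal R} {P : Ideal R} [P.IsPrime]
    (hP : P ∈ I.minimalPrimes) (hJ : I ≤ J.radical) (hV : ∀ r ∈ J, ∀ x : V, r • x = 0) :
    IsArtinian (Localization.AtPrime P) (LocalizedModule P.primeCompl V) := by
  let S := Localization.AtPrime P
  have : Module.Finite S (LocalizedModule P.primeCompl V) :=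
    Module.Finite.of_isLocalizedModule P.primeCompl (LocalizedModule.mkLinearMap P.primeCompl V)
  rw [Groth.Agent.H4Matlis.isArtinian_iff]
  refine ⟨?_, ?_⟩
  · have hrad : maximalIdeal S ≤ (J.map (algebraMap R S)).radical := by
      rw [Ideal.radical_eq_sInf]
      refine le_sInf fun Q ⟨hJQ, hQ⟩ => ?_
      have h1 : I ≤ Q.comap (algebraMap R S) :=
        hJ.trans ((Ideal.IsPrime.radical_le_iff (Ideal.comap_isPrime _ Q)).2
          (Ideal.map_le_iff_le_comap.1 hJQ))
      have h2 : Q.comap (algebraMap R S) ≤ P :=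
        (IsLocalization.AtPrime.orderIsoOfPrime S P ⟨Q, hQ⟩).2.2
      have h3 : P ≤ Q.comap (algebraMap R S) := hP.2 ⟨Ideal.comap_isPrime _ Q, h1⟩ h2
      rw [← IsLocalization.map_comap P.primeCompl S Q,
        ← IsLocalization.map_comap P.primeCompl S (maximalIdeal S),
        IsLocalization.AtPrime.comap_maximalIdeal S P]
      exact Ideal.map_mono h3
    obtain ⟨N, hN⟩ := Ideal.exists_pow_le_of_le_radical_of_fg hrad (IsNoetherian.noetherian _)
    refine fun x => ⟨N, fun a ha => ?_⟩
    have ha' := hN ha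
    clear ha
    rw [Ideal.map] at ha'
    induction ha' using Submodule.span_induction with
    | mem b hb =>
      obtain ⟨r, hr, rfl⟩ := hb
      induction x using LocalizedModule.induction_on with
      | h y s => rw [algebraMap_smul, LocalizedModule.smul'_mk, hV r hr y, LocalizedModule.zero_mk]
    | zero => exact zero_smul _ x
    | add b c _ _ hb hc => rw [add_smul, hb, hc, add_zero]
    | smul c b _ hb => rw [smul_eq_mul, mul_smul, hb, smul_zero]
  · exact Module.Finite.of_restrictScalars_finite S _ _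

/-- A descending chain of submodules stabilises generically on its support. -/
theorem exists_smul_le {R : Type u} [CommRing R] [IsNoetherianRing R] {V : Type w}
    [AddCommGroup V] [Module R V] [Module.Finite R V] {I J : Ideal R} {P : Ideal R} [P.IsPrime]
    (hP : P ∈ I.minimalPrimes) (hJ : I ≤ J.radical) (hV : ∀ r ∈ J, ∀ x : V, r • x = 0)
    (K : ℕ → Submodule R V) (hK : Antitone K) :
    ∃ j, ∃ s ∉ P, ∀ x ∈ K j, s • x ∈ K (j + 1) := by
  haveI := isArtinian_localized hP hJ hV
  let g : V →ₗ[R] LocalizedModule P.primeCompl V := LocalizedModule.mkLinearMap P.primeCompl V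
  haveI : IsLocalizedModule P.primeCompl g := inferInstanceAs
    (IsLocalizedModule P.primeCompl (LocalizedModule.mkLinearMap P.primeCompl V))
  let N : ℕ → Submodule (Localization P.primeCompl) (LocalizedModule P.primeCompl V) := fun j =>
    (K j).localized P.primeCompl
  have hN : Antitone N := fun i j h x hx => by
    obtain ⟨y, hy, s, hs⟩ := hx
    exact ⟨y, hK h hy, s, hs⟩
  obtain ⟨j, hj⟩ := IsArtinian.monotone_stabilizes
    (⟨fun i => OrderDual.toDual (N i), fun i k h => hN h⟩ : ℕ →o _)
  refine ⟨j, ?_⟩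
  have hfg : (K j).FG := IsNoetherian.noetherian _
  have key : ∀ x ∈ K j, ∃ s ∉ P, s • x ∈ K (j + 1) := by
    intro x hx
    have h1 : g x ∈ N j := ⟨x, hx, 1, IsLocalizedModule.mk'_one P.primeCompl g x⟩
    rw [show N j = N (j + 1) from hj (j + 1) j.le_succ] at h1
    obtain ⟨y, hy, t, ht⟩ := h1
    have h2 : IsLocalizedModule.mk' g y t = IsLocalizedModule.mk' g x (1 : P.primeCompl) := by
      rw [IsLocalizedModule.mk'_one]; exact ht
    rw [IsLocalizedModule.mk'_eq_mk'_iff] at h2
    obtain ⟨c, hc⟩ := h2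
    simp only [Submonoid.smul_def, OneMemClass.coe_one, one_smul, smul_smul] at hc
    exact ⟨(c : R) * t, (c * t).2, hc ▸ (K (j + 1)).smul_mem _ hy⟩
  obtain ⟨T, hT⟩ := hfg
  choose! s hs1 hs2 using key
  have hmem : ∀ x ∈ T, x ∈ K j := fun x hx => hT ▸ Submodule.subset_span hx
  refine ⟨∏ x ∈ T, s x, fun h => ?_, fun x hx => ?_⟩
  · obtain ⟨x, hx, hx'⟩ := (Ideal.IsPrime.prod_mem_iff (p := P)).1 h
    exact hs1 x (hmem x hx) hx'
  · rw [← hT] at hx
    induction hx using Submodule.span_induction with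
    | mem y hy =>
      classical
      rw [← Finset.prod_erase_mul T s hy, mul_smul]
      exact (K (j + 1)).smul_mem _ (hs2 y (hmem y hy))
    | zero => rw [smul_zero]; exact zero_mem _
    | add y z _ _ hy hz => rw [smul_add]; exact add_mem hy hz
    | smul c y _ hy => rw [smul_comm]; exact (K (j + 1)).smul_mem _ hy

theorem hsl (p : ℕ) [Fact p.Prime] (A : Type u) [CommRing A] [IsNoetherianRing A] [IsLocalRing A]
    [CharP A p] (M : Type v) [AddCommGroup M] [Module A M]
    (htors : IsPowerTorsion (maximalIdeal A) M)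
    (hsoc : Module.Finite A ↥(torsionBy (maximalIdeal A) M)) (φ : M →ₛₗ[frobenius A p] M)
    (hloc : ∀ x : M, ∃ n : ℕ, (⇑φ)^[n] x = 0) :
    ∃ n : ℕ, ∀ x : M, (⇑φ)^[n] x = 0 := by
  classical
  have hp : p.Prime := Fact.out
  let m := maximalIdeal A
  let R := AdicCompletion m A
  haveI : IsNoetherianRing R := H24Adic.isNoetherianRing_adicCompletion _
  -- the hull
  obtain ⟨E, _, _, f, hf⟩ := H4Inj.exists_isInjectiveHull (R := A) (ResidueField A)
  have hE : IsPowerTorsion m E := H4Matlis.isPowerTorsion hf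
  have baer : Module.Baer A E := Module.Baer.of_injective hf.isInjective
  letI : Module R M := complModule htors
  letI : Module R E := complModule hE
  haveI : IsScalarTower A R E := ⟨fun a r x => by
    change (actAlg hE (a • r)) x = a • (actAlg hE r) x
    rw [map_smul]; rfl⟩
  haveI : IsScalarTower A R M := ⟨fun a r x => by
    change (actAlg htors (a • r)) x = a • (actAlg htors r) x
    rw [map_smul]; rfl⟩
  haveI : SMulCommClass A R E := ⟨fun a r x => ((actAlg hE r).map_smul a x).symm⟩
  have hcomm : ∀ (ψ : M →ₗ[A] E) (r : R) (x : M), ψ (r • x) = r • ψ x :=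
    fun ψ r x => map_act htors hE ψ r x
  -- semilinearity over the completion
  have hφ : ∀ (r : R) (x : M), φ (r • x) = r ^ p • φ x := by
    intro r x
    obtain ⟨a, ha⟩ := htors x
    obtain ⟨b, hb⟩ := htors (φ x)
    have h1 : ∀ c ∈ m ^ (a + b), c • x = 0 := fun c hc =>
      ha c (Ideal.pow_le_pow_right (Nat.le_add_right a b) hc)
    have h2 : ∀ c ∈ m ^ (a + b), c • φ x = 0 := fun c hc =>
      hb c (Ideal.pow_le_pow_right (Nat.le_add_left b a) hc)
    change φ (act htors r x) = act htors (r ^ p) (φ x)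
    rw [act_eq htors r h1 (mk_rep r _),
      act_eq htors (r ^ p) h2 (c := rep r (a + b) ^ p) (by rw [map_pow, map_pow, mk_rep]),
      LinearMap.map_smulₛₗ, frobenius_def]
  have hφj : ∀ (j : ℕ) (r : R) (x : M), (⇑φ)^[j] (r • x) = r ^ p ^ j • (⇑φ)^[j] x := by
    intro j
    induction j with
    | zero => intro r x; simp
    | succ j ih =>
      intro r x
      rw [Function.iterate_succ_apply', ih, hφ, Function.iterate_succ_apply', ← pow_mul,
        ← pow_succ]
  -- the kernels
  let L : ℕ → Submodule R M := fun j =>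
    { carrier := {x | (⇑φ)^[j] x = 0}
      add_mem' := fun {x y} hx hy => by
        change (⇑φ)^[j] (x + y) = 0
        rw [iterate_map_add φ, hx, hy, add_zero]
      zero_mem' := iterate_map_zero φ j
      smul_mem' := fun r x hx => by
        change (⇑φ)^[j] (r • x) = 0
        rw [hφj, hx, smul_zero] }
  have hLs : ∀ {j x}, φ x ∈ L j ↔ x ∈ L (j + 1) := fun {j x} => Iff.rfl
  have hL : Monotone L := monotone_nat_of_le_succ fun j x (hx : (⇑φ)^[j] x = 0) => by
    change (⇑φ)^[j + 1] x = 0
    rw [Function.iterate_succ_apply', hx, map_zero]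
  let I : ℕ → Ideal R := fun j =>
    { carrier := {r | ∀ x ∈ L (j + 1), r • x ∈ L j}
      add_mem' := fun {r s} hr hs x hx => by rw [add_smul]; exact add_mem (hr x hx) (hs x hx)
      zero_mem' := fun x _ => by rw [zero_smul]; exact zero_mem _
      smul_mem' := fun c r hr x hx => by
        rw [smul_eq_mul, mul_smul]; exact (L j).smul_mem c (hr x hx) }
  have hIs : ∀ j r, r ^ p ∈ I j → r ∈ I (j + 1) := fun j r hr x hx => by
    rw [← hLs, hφ]
    exact hr _ (hLs.2 hx)
  have hI : Monotone I := monotone_nat_of_le_succ fun j r hr =>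
    hIs j r (Ideal.pow_mem_of_mem _ hr p hp.pos)
  obtain ⟨j0, hj0⟩ := monotone_stabilizes_iff_noetherian.2 inferInstance ⟨I, hI⟩
  have hst : ∀ j, j0 ≤ j → I j = I j0 := fun j hj => (hj0 j hj).symm
  by_cases htop : I j0 = ⊤
  · refine ⟨j0, fun x => ?_⟩
    have h : ∀ k, ∀ y ∈ L (j0 + k), y ∈ L j0 := by
      intro k
      induction k with
      | zero => exact fun y hy => hy
      | succ k ih =>
        intro y hy
        have h1 : (1 : R) ∈ I (j0 + k) := by rw [hst _ (Nat.le_add_right _ _), htop]; trivial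
        exact ih y (by simpa using h1 y hy)
    obtain ⟨n, hn⟩ := hloc x
    exact h n x (hL (Nat.le_add_left n j0) (show x ∈ L n from hn))
  exfalso
  have hrad : ∀ r : R, r ^ p ∈ I j0 → r ∈ I j0 := fun r hr =>
    hst (j0 + 1) (Nat.le_succ _) ▸ hIs j0 r hr
  -- the square of `I` kills the quotient by `L j0`
  have hI1 : ∀ k, ∀ x ∈ L (j0 + k), ∀ r ∈ I j0, r • x ∈ L (j0 + 1) := by
    intro k
    induction k with
    | zero => exact fun x hx r _ => hL (Nat.le_succ _) ((L j0).smul_mem r hx)
    | succ k ih =>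
      intro x hx r hr
      rw [← hLs, hφ, show r ^ p = r ^ (p - 1) * r by
        rw [← pow_succ, Nat.sub_add_cancel hp.pos], mul_smul]
      exact Ideal.pow_mem_of_mem _ hr (p - 1) (by have := hp.two_le; omega) _
        (ih _ (hLs.2 hx) r hr)
  have hI2 : ∀ (x : M), ∀ r ∈ I j0 * I j0, r • x ∈ L j0 := by
    intro x r hr
    obtain ⟨n, hn⟩ := hloc x
    have hx : x ∈ L (j0 + n) := hL (Nat.le_add_left n j0) (show x ∈ L n from hn)
    refine Submodule.mul_induction_on hr (fun a ha b hb => ?_) fun a b ha hb => ?_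
    · rw [mul_smul]; exact ha _ (hI1 n x hx b hb)
    · rw [add_smul]; exact add_mem ha hb
  -- the dual
  haveI : Module.Finite (A ⧸ m) ↥(torsionBy m M) := Module.Finite.of_restrictScalars_finite A _ _
  letI := Ideal.Quotient.field m
  obtain ⟨n, g, hg⟩ : ∃ (n : ℕ) (g : M →ₗ[A] (Fin n → E)), Function.Injective g := by
    let b := (Module.finBasis (A ⧸ m) ↥(torsionBy m M)).equivFun
    let ψ : ↥(torsionBy m M) →ₗ[A] (Fin _ → E) :=
      LinearMap.pi fun i => f ∘ₗ LinearMap.proj i ∘ₗ (b.restrictScalars A).toLinearMap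
    have hψ : Function.Injective ψ := fun x y h =>
      b.injective (funext fun i => hf.injective (congrFun h i))
    choose gi hgi using fun i => baer.extension_property (torsionBy m M).subtype
      Subtype.val_injective (LinearMap.proj i ∘ₗ ψ)
    refine ⟨_, LinearMap.pi gi, (injective_iff_map_eq_zero _).2 fun x hx => ?_⟩
    by_contra hx0
    obtain ⟨r, hr, hr0⟩ := H4Matlis.exists_least_torsion htors hx0
    have h1 : ψ ⟨r • x, hr⟩ = 0 := funext fun i => by
      have h2 : gi i x = 0 := congrFun hx i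
      have h3 := LinearMap.congr_fun (hgi i) ⟨r • x, hr⟩
      change gi i (r • x) = _ at h3
      rw [map_smul, h2, smul_zero] at h3
      exact h3.symm
    exact hr0 (congrArg Subtype.val (hψ (h1.trans (map_zero ψ).symm) :))
  let Φ : (Fin n → R) →ₗ[R] (M →ₗ[A] E) :=
    ∑ i, (LinearMap.proj i).smulRight (LinearMap.proj i ∘ₗ g)
  have hΦ : Function.Surjective Φ := by
    intro ψ
    obtain ⟨h, hh⟩ := baer.extension_property g hg ψ
    choose r hr using fun i => (H4Matlis.bijective_actAlg hf).2 (h ∘ₗ LinearMap.single A (fun _ => E) i)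
    refine ⟨r, LinearMap.ext fun x => ?_⟩
    simp only [Φ, LinearMap.sum_apply, LinearMap.smulRight_apply, LinearMap.proj_apply,
      LinearMap.smul_apply, LinearMap.comp_apply]
    rw [← hh, LinearMap.comp_apply]
    conv_rhs => rw [← Finset.univ_sum_single (g x), map_sum]
    refine Finset.sum_congr rfl fun i _ => ?_
    exact LinearMap.congr_fun (hr i) (g x i)
  haveI : Module.Finite R (M →ₗ[A] E) := Module.Finite.of_surjective Φ hΦ
  let V : Submodule R (M →ₗ[A] E) :=
    { carrier := {ψ | ∀ x ∈ L j0, ψ x = 0}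
      add_mem' := fun {a b} ha hb x hx => by rw [LinearMap.add_apply, ha x hx, hb x hx, add_zero]
      zero_mem' := fun x _ => rfl
      smul_mem' := fun r a ha x hx => by rw [LinearMap.smul_apply, ha x hx, smul_zero] }
  let K : ℕ → Submodule R V := fun k =>
    { carrier := {ψ | ∀ x ∈ L (j0 + k), ψ.1 x = 0}
      add_mem' := fun {a b} ha hb x hx => by
        change a.1 x + b.1 x = 0
        rw [ha x hx, hb x hx, add_zero]
      zero_mem' := fun x _ => rfl
      smul_mem' := fun r a ha x hx => by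
        change r • a.1 x = 0
        rw [ha x hx, smul_zero] }
  have hV : ∀ r ∈ I j0 * I j0, ∀ ψ : V, r • ψ = 0 := fun r hr ψ =>
    Subtype.ext (LinearMap.ext fun x => by
      change r • ψ.1 x = 0
      rw [← hcomm]
      exact ψ.2 _ (hI2 x r hr))
  obtain ⟨P, hP⟩ := Ideal.nonempty_minimalPrimes htop
  haveI := hP.1.1
  obtain ⟨k, s, hs, hsK⟩ := exists_smul_le hP
    (J := I j0 * I j0) (fun r hr => ⟨2, by rw [pow_two]; exact Ideal.mul_mem_mul hr hr⟩) hV K
    (fun i j h ψ hψ x hx => hψ x (hL (Nat.add_le_add_left h j0) hx))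
  refine hs (hP.1.2 ?_)
  rw [← hst (j0 + k) (Nat.le_add_right _ _)]
  intro x hx
  by_contra hne
  let N : Submodule A M := (L (j0 + k)).restrictScalars A
  have hQ : IsPowerTorsion m (M ⧸ N) := fun y => by
    obtain ⟨y, rfl⟩ := N.mkQ_surjective y
    obtain ⟨t, ht⟩ := htors y
    exact ⟨t, fun a ha => by rw [← map_smul, ht a ha, map_zero]⟩
  have hy : N.mkQ (s • x) ≠ 0 := by
    rw [Ne, Submodule.mkQ_apply, Submodule.Quotient.mk_eq_zero]
    exact hne
  obtain ⟨c, hc, hc0⟩ := H4Matlis.exists_least_torsion hQ hy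
  let ι : (A ⧸ m) →ₗ[A] (M ⧸ N) := Submodule.liftQ m
    (LinearMap.toSpanSingleton A _ (c • N.mkQ (s • x))) fun a ha =>
      (Submodule.mem_torsionBySet_iff _ _).1 hc ⟨a, ha⟩
  have hι : Function.Injective ι := by
    refine (injective_iff_map_eq_zero _).2 fun q hq => by_contra fun hq0 => hc0 ?_
    obtain ⟨a, rfl⟩ := Ideal.Quotient.mk_surjective q
    have hu : IsUnit a := notMem_maximalIdeal.1 fun h =>
      hq0 (Ideal.Quotient.eq_zero_iff_mem.2 h)
    change a • (c • N.mkQ (s • x)) = 0 at hq
    rwa [hu.smul_eq_zero] at hq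
  obtain ⟨h, hh⟩ := baer.extension_property ι hι f
  have hψ : ∀ z ∈ L (j0 + k), (h ∘ₗ N.mkQ) z = 0 := fun z hz => by
    rw [LinearMap.comp_apply, Submodule.mkQ_apply,
      (Submodule.Quotient.mk_eq_zero N).2 hz, map_zero]
  have h0 := hsK ⟨h ∘ₗ N.mkQ, fun z hz => hψ z (hL (Nat.le_add_right _ _) hz)⟩ hψ x hx
  change s • (h ∘ₗ N.mkQ) x = 0 at h0
  rw [← hcomm (h ∘ₗ N.mkQ)] at h0
  have h1 : f (Submodule.Quotient.mk 1) = c • h (N.mkQ (s • x)) := by
    refine (LinearMap.congr_fun hh (Submodule.Quotient.mk (1 : A))).symm.trans ?_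
    change h ((1 : A) • c • N.mkQ (s • x)) = _
    rw [one_smul, map_smul]
  have h0' : h (N.mkQ (s • x)) = 0 := h0
  rw [h0', smul_zero] at h1
  have h2 := hf.injective (h1.trans (map_zero f).symm)
  exact (maximalIdeal.isMaximal A).ne_top ((Ideal.eq_top_iff_one _).2
    ((Submodule.Quotient.mk_eq_zero _).1 h2))

end Groth.Agent.H27HSL
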